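import Cfsg.Agent.H819.U33.Base
import Cfsg.Agent.BabyU.ClosModel
import Cfsg.Agent.BabyM.TransFields

/-!
# S5525: transpositions of the Baby Monster are compared by their axes

`chkAx s v w` : the words `v` and `w` map the base axis to the same vector (`s = false`) or to opposite vectors
(`s = true`).  Then the conjugates of the base transposition `g t0` by `g v` and `g w` are equal (`conj_of_chkAx`).
`chkLit v x` : the word `v` maps the base axis to the literal vector `x`;  `chkStep v x s y` : the word `v` maps the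
literal vector `x` to the literal vector `± y`.
-/

set_option autoImplicit false

namespace Cfsg.Agent.H149.U33

open Cfsg.Agent.Monster.VecEngine Cfsg.Agent.Monster.VecSpace Cfsg.Agent.BabyM.Conc Cfsg.Agent.BabyM.Inst Cfsg.Agent.BabyM.InstVec Cfsg.Agent.BabyM.InstZ
  Cfsg.Agent.BabyM.TransInv Cfsg.Agent.BabyM.TransFields Cfsg.Agent.BabyU.ClosModel Cfsg.Agent.BM.StageW
  Cfsg.Agent.H819.U33

/-- The word of the base transposition. -/
def t0 : List Ltr := [.Z0, .Z2, .Z4, .Z5, .Z6]

theorem g_t0 : g t0 = tt BabyM.Instance.all := by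
  have h : Wg t0 = tt BabyM.Instance.all := Subtype.ext rfl
  unfold g
  rw [h]
  exact inv_eq_of_mul_eq_one_right (t_sq _)

theorem g_inv (v : List Ltr) : (g v)⁻¹ = Wg v := by
  unfold g
  rw [inv_inv]

/-- The axis of a transposition as the value of a word. -/
theorem conj_of_axis {v w : List Ltr} (h : W v M.d₀ = W w M.d₀ ∨ W v M.d₀ = - W w M.d₀) :
    (g v)⁻¹ * g t0 * g v = (g w)⁻¹ * g t0 * g w := by
  have h1 := conj_axis BabyM.Instance.all (g := Wg v) (h := Wg w) h
  have e : ∀ u : List Ltr, g u = (Wg u)⁻¹ := fun _ => rfl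
  rw [g_t0, g_inv, g_inv, e v, e w]
  exact h1

/-- The converse. -/
theorem axis_of_conj {v w : List Ltr} (h : (g v)⁻¹ * g t0 * g v = (g w)⁻¹ * g t0 * g w) :
    W v M.d₀ = W w M.d₀ ∨ W v M.d₀ = - W w M.d₀ := by
  have e : ∀ u : List Ltr, g u = (Wg u)⁻¹ := fun _ => rfl
  rw [g_t0, g_inv, g_inv, e v, e w] at h
  exact axis_of BabyM.Instance.all BabyM.Instance.tr h

/-! ### The checks -/

/-- `v d₀ = w d₀` (`s = false`) or `v d₀ = - w d₀` (`s = true`). -/
noncomputable def chkAx (s : Bool) (v w : List Ltr) : Bool :=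
  check (v.map Ltr.prog) dv0 (w.map Ltr.prog) (cond s (neg U dv0) dv0)

theorem conj_of_chkAx {s : Bool} {v w : List Ltr} (h : chkAx s v w = true) :
    (g v)⁻¹ * g t0 * g v = (g w)⁻¹ * g t0 * g w := by
  have h1 := W_eq_of_check (v₁ := v) (v₂ := w) h
  refine conj_of_axis ?_
  rw [d₀_eq', map_smul, map_smul, h1]
  cases s
  · exact Or.inl rfl
  · right
    show (1 / 8 : ℚ) • W w (vecU ℚ U (neg U dv0)) = _
    rw [vecU_neg, map_neg, smul_neg]

/-- The list version. -/
noncomputable def chkAxs (l : List (Bool × List Ltr × List Ltr)) : Bool :=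
  List.rec (motive := fun _ => Bool) true (fun a _ ih => cond (chkAx a.1 a.2.1 a.2.2) ih false) l

theorem chkAxs_sound {l : List (Bool × List Ltr × List Ltr)} (h : chkAxs l = true) :
    ∀ a ∈ l, (g a.2.1)⁻¹ * g t0 * g a.2.1 = (g a.2.2)⁻¹ * g t0 * g a.2.2 := by
  induction l with
  | nil => exact fun a ha => absurd ha List.not_mem_nil
  | cons b l ih =>
    have h' : cond (chkAx b.1 b.2.1 b.2.2) (chkAxs l) false = true := h
    cases hb : chkAx b.1 b.2.1 b.2.2
    · rw [hb] at h'
      exact absurd h' Bool.false_ne_true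
    · rw [hb] at h'
      intro a ha
      rcases List.mem_cons.1 ha with rfl | ha
      · exact conj_of_chkAx hb
      · exact ih h' a ha

/-- `v d₀ = (1/8) x`. -/
noncomputable def chkLit (v : List Ltr) (x : Pl) : Bool := check (v.map Ltr.prog) dv0 [] x

theorem axis_of_chkLit {v : List Ltr} {x : Pl} (h : chkLit v x = true) : W v M.d₀ = (1 / 8 : ℚ) • vecU ℚ U x := by
  have h1 := W_eq_of_check (v₁ := v) (v₂ := []) h
  rw [W_nil, LinearEquiv.coe_one, id] at h1
  rw [d₀_eq', map_smul, h1]

/-- `v x = y` (`s = false`) or `v x = - y` (`s = true`). -/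
noncomputable def chkStep (v : List Ltr) (x : Pl) (s : Bool) (y : Pl) : Bool :=
  check (v.map Ltr.prog) x [] (cond s (neg U y) y)

theorem W_of_chkStep {v : List Ltr} {x y : Pl} {s : Bool} (h : chkStep v x s y = true) :
    W v (vecU ℚ U x) = vecU ℚ U y ∨ W v (vecU ℚ U x) = - vecU ℚ U y := by
  have h1 := W_eq_of_check (v₁ := v) (v₂ := []) h
  rw [W_nil, LinearEquiv.coe_one, id] at h1
  rw [h1]
  cases s
  · exact Or.inl rfl
  · right
    exact vecU_neg _

end Cfsg.Agent.H149.U33
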